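import Mathlib.RingTheory.MvPowerSeries.Equiv
import Mathlib.RingTheory.AdicCompletion.Algebra
import Mathlib.RingTheory.MvPolynomial.Ideal
import Mathlib.RingTheory.Polynomial.Basic
import Mathlib.RingTheory.Finiteness.Ideal

/-!
# Adic completions of Noetherian rings are Noetherian
-/

universe u v

namespace Groth.Agent.AdicNoeth

/-- The completion map induced by a surjection with `I = f(J)` is surjective. -/
theorem exists_surjective_map {P : Type u} {R : Type v} [CommRing P] [CommRing R] (f : P →+* R)
    (hf : Function.Surjective f) (J : Ideal P) (I : Ideal R) (hJ : J.map f = I) :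
    ∃ g : AdicCompletion J P →+* AdicCompletion I R, Function.Surjective g := by
  subst hJ
  have hle : ∀ n, J ^ n ≤ Ideal.comap f (J.map f ^ n) := fun n => by
    rw [← Ideal.map_pow]
    exact Ideal.le_comap_map
  let F : (n : ℕ) → AdicCompletion J P →+* R ⧸ J.map f ^ n := fun n =>
    (Ideal.quotientMap (J.map f ^ n) f (hle n)).comp (AdicCompletion.evalₐ J n).toRingHom
  have hF : ∀ (n : ℕ) (p : AdicCompletion.AdicCauchySequence J P),
      F n (AdicCompletion.mk J P p) = Ideal.Quotient.mk _ (f (p n)) := fun n p => by
    change Ideal.quotientMap _ f (hle n) (AdicCompletion.evalₐ J n (AdicCompletion.mk J P p)) = _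
    rw [AdicCompletion.evalₐ_mk]
    rfl
  refine ⟨AdicCompletion.liftRingHom (J.map f) F ?_, fun y => ?_⟩
  · intro m n hmn
    refine RingHom.ext fun x => ?_
    obtain ⟨p, rfl⟩ := AdicCompletion.mk_surjective J P x
    rw [RingHom.comp_apply, hF, hF]
    change Ideal.Quotient.factor _ (Ideal.Quotient.mk _ _) = _
    rw [Ideal.Quotient.factor_mk, Ideal.Quotient.mk_eq_mk_iff_sub_mem, ← map_sub,
      ← Ideal.map_pow]
    have h := (p.property hmn).symm
    rw [SModEq.sub_mem, smul_eq_mul, Ideal.mul_top] at h
    exact Ideal.mem_map_of_mem f h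
  · obtain ⟨r, rfl⟩ := AdicCompletion.mk_surjective (J.map f) R y
    have hstep : ∀ n, ∃ q ∈ J ^ n, f q = r (n + 1) - r n := fun n => by
      have h := (r.property (Nat.le_succ n)).symm
      rw [SModEq.sub_mem, smul_eq_mul, Ideal.mul_top, ← Ideal.map_pow,
        Ideal.mem_map_iff_of_surjective f hf] at h
      exact h
    choose q hq hfq using hstep
    obtain ⟨p0, hp0⟩ := hf (r 0)
    let p : ℕ → P := fun n => p0 + ∑ i ∈ Finset.range n, q i
    have hp : ∀ n, f (p n) = r n := fun n => by
      induction n with
      | zero => simpa [p] using hp0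
      | succ n ih =>
        have : p (n + 1) = p n + q n := by simp [p, Finset.sum_range_succ, add_assoc]
        rw [this, map_add, ih, hfq, add_sub_cancel]
    let ps : AdicCompletion.AdicCauchySequence J P := AdicCompletion.AdicCauchySequence.mk J P p
      fun n => by
        rw [SModEq.sub_mem, smul_eq_mul, Ideal.mul_top]
        have : p n - p (n + 1) = - q n := by simp [p, Finset.sum_range_succ]
        rw [this]
        exact neg_mem (hq n)
    refine ⟨AdicCompletion.mk J P ps, AdicCompletion.ext_evalₐ fun n => ?_⟩
    rw [AdicCompletion.evalₐ_liftRingHom, hF, AdicCompletion.evalₐ_mk]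
    exact congrArg _ (hp n)

/-- The completion of a Noetherian ring at any ideal is Noetherian. -/
theorem isNoetherianRing_adicCompletion {R : Type u} [CommRing R] [IsNoetherianRing R]
    (I : Ideal R) : IsNoetherianRing (AdicCompletion I R) := by
  obtain ⟨n, s, hs⟩ := Submodule.fg_iff_exists_fin_generating_family.mp (IsNoetherian.noetherian I)
  let φ : MvPolynomial (Fin n) R →ₐ[R] R := MvPolynomial.aeval s
  have hφ : Function.Surjective φ := fun r => ⟨MvPolynomial.C r, by simp [φ]⟩
  have hJ : (MvPolynomial.idealOfVars (Fin n) R).map φ.toRingHom = I := by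
    rw [MvPolynomial.idealOfVars, Ideal.map_span, ← Set.range_comp, ← hs]
    simp [φ, Function.comp_def]
  obtain ⟨g, hg⟩ := exists_surjective_map φ.toRingHom hφ _ I hJ
  exact isNoetherianRing_of_surjective (MvPowerSeries (Fin n) R) (AdicCompletion I R)
    (g.comp (MvPowerSeries.toAdicCompletionAlgEquiv (Fin n) R : MvPowerSeries (Fin n) R →+* _))
    (hg.comp (MvPowerSeries.toAdicCompletionAlgEquiv (Fin n) R).surjective)

end Groth.Agent.AdicNoeth
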